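import Groth.Agent.Alg.PBasis.Smooth
import Mathlib.RingTheory.Kaehler.JacobiZariski
import Mathlib.RingTheory.Unramified.Field
import Mathlib.RingTheory.Flat.Basic
import Mathlib.RingTheory.IntegralClosure.IsIntegralClosure.Basic

/-! Formally smooth field extensions are exactly the geometrically reduced ones. -/

open TensorProduct

universe u

namespace Groth.Agent.Alg.PBasis

theorem mapBaseChange_injective (R S T : Type*) [CommRing R] [CommRing S] [CommRing T] [Algebra R S]
    [Algebra S T] [Algebra R T] [IsScalarTower R S T] [Algebra.FormallySmooth S T] :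
    Function.Injective (KaehlerDifferential.mapBaseChange R S T) := by
  refine (injective_iff_map_eq_zero _).mpr fun x hx => ?_
  obtain ⟨y, rfl⟩ := (Algebra.H1Cotangent.exact_δ_mapBaseChange R S T x).mp hx
  rw [Subsingleton.elim y 0, map_zero]

theorem subsingleton_h1Cotangent_of_injective (R S T : Type u) [CommRing R] [CommRing S] [CommRing T]
    [Algebra R S] [Algebra S T] [Algebra R T] [IsScalarTower R S T] [Algebra.FormallySmooth R T]
    (h : Function.Injective (KaehlerDifferential.mapBaseChange R S T)) :
    Subsingleton (Algebra.H1Cotangent S T) := by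
  refine subsingleton_of_forall_eq 0 fun y => ?_
  obtain ⟨z, rfl⟩ := (Algebra.H1Cotangent.exact_map_δ R S T y).mp
    (h ((Algebra.H1Cotangent.exact_δ_mapBaseChange R S T _).mpr ⟨y, rfl⟩ |>.trans (map_zero _).symm))
  rw [Subsingleton.elim z 0, map_zero]

theorem geometricallyReduced_of_perfectField (k K : Type u) [Field k] [PerfectField k] [Field K] [Algebra k K] :
    Algebra.IsGeometricallyReduced k K := by
  rw [Algebra.isGeometricallyReduced_field_iff]
  have : IsReduced (K ⊗[k] AlgebraicClosure k) := by
    refine IsReduced.tensorProduct_of_flat_of_forall_fg fun B hB => ?_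
    have : Algebra.FiniteType k B := (Subalgebra.fg_iff_finiteType B).mp hB
    have : Algebra.IsIntegral k B :=
      Algebra.IsIntegral.of_injective B.val Subtype.val_injective
    have : Module.Finite k B := Algebra.IsIntegral.finite
    letI : Field B := (Subalgebra.isField_of_algebraic B).toField
    have : Algebra.FormallyUnramified k B := Algebra.FormallyUnramified.of_isSeparable k B
    exact Algebra.FormallyUnramified.isReduced_of_field K _
  exact isReduced_of_injective (Algebra.TensorProduct.comm k (AlgebraicClosure k) K)
    (AlgEquiv.injective _)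

theorem formallySmooth_iff_geometricallyReduced (k K : Type u) [Field k] [Field K] [Algebra k K] :
    Algebra.FormallySmooth k K ↔ Algebra.IsGeometricallyReduced k K := by
  refine ⟨fun h => ?_, fun h => formallySmooth_of_geometricallyReduced⟩
  obtain ⟨p, hk⟩ := CharP.exists k
  rcases CharP.char_is_prime_or_zero k p with hp | rfl
  · have := Fact.mk hp
    have : CharP K p := charP_of_injective_algebraMap (algebraMap k K).injective p
    obtain ⟨S, hS⟩ := exists_pBasis p k
    rw [geometricallyReduced_iff p hS]
    obtain ⟨e, he⟩ := exists_kaehlerEquiv p (powField_hA p (k := k))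
    let b₁ : Module.Basis S k (Ω[k⁄powField p k]) :=
      Module.Basis.mk ((independent_iff p _).mp hS.1) ((generating_iff p _).mp hS.2).ge
    let b : Module.Basis S K (K ⊗[k] Ω[k⁄ℤ]) := (b₁.map e.symm).baseChange K
    have hb : ∀ s : S, KaehlerDifferential.mapBaseChange ℤ k K (b s) =
        KaehlerDifferential.D ℤ K (algebraMap k K s) := fun s => by
      have h1 : b₁.map e.symm s = KaehlerDifferential.D ℤ k (s : k) := by
        rw [Module.Basis.map_apply, LinearEquiv.symm_apply_eq, he]
        exact Module.Basis.mk_apply _ _ s
      rw [show b s = (1 : K) ⊗ₜ b₁.map e.symm s from Module.Basis.baseChange_apply _ _ s, h1,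
        KaehlerDifferential.mapBaseChange_tmul, one_smul, KaehlerDifferential.map_D]
    rw [show (fun s : S => KaehlerDifferential.D ℤ K (algebraMap k K (s : k))) =
      KaehlerDifferential.mapBaseChange ℤ k K ∘ b from funext fun s => (hb s).symm]
    refine b.linearIndependent.map' _ (LinearMap.ker_eq_bot.mpr ?_)
    let f := KaehlerDifferential.mapBaseChange ℤ k K
    exact (mapBaseChange_injective ℤ k K : Function.Injective f)
  · have : CharZero k := CharP.charP_to_charZero k
    exact geometricallyReduced_of_perfectField k K

end Groth.Agent.Alg.PBasis
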