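import Groth.Prelude.Def_EGA41
import Mathlib.RingTheory.MvPolynomial.Basic
import Mathlib.Algebra.CharP.Lemmas
import Mathlib.RingTheory.Derivation.Basic
import Mathlib.Algebra.TrivSqZeroExt.Basic

/-! Universal property of algebras with a `p`-basis. -/

open MvPolynomial

universe u v

namespace Groth.Agent.Alg.PBasis

variable (p : ℕ) [Fact p.Prime] {A B : Type u} [CommRing A] [CommRing B] [Algebra A B]

local notation "A₀" => EGA41.pPowerSubalgebra p A B

variable (A) in
omit [Fact p.Prime] in
theorem pow_mem (b : B) : b ^ p ∈ A₀ := Algebra.subset_adjoin ⟨b, rfl⟩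

omit [Fact p.Prime] in
theorem ringHom_ext_of_generating {ι : Type u} {x : ι → B} (hx : EGA41.IsPGenerating p A x)
    {E : Type v} [CommRing E] (Φ Ψ : B →+* E) (h0 : ∀ a ∈ A₀, Φ a = Ψ a) (h1 : ∀ i, Φ (x i) = Ψ (x i)) :
    Φ = Ψ := by
  ext b
  have hb : b ∈ Submodule.span A₀
      (Set.range fun e : {e : ι →₀ ℕ // ∀ i, e i < p} => EGA41.pMonomial x e.1) := hx ▸ trivial
  induction hb using Submodule.span_induction with
  | mem y hy =>
    obtain ⟨e, rfl⟩ := hy
    simp only [EGA41.pMonomial, map_finsuppProd, map_pow, h1]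
  | zero => simp
  | add u v _ _ hu hv => rw [map_add, map_add, hu, hv]
  | smul a u _ hu =>
    change Φ ((a : B) * u) = Ψ ((a : B) * u)
    rw [map_mul, map_mul, hu, h0 _ a.2]

/-- The universal property of a `p`-basis. -/
theorem exists_ringHom {ι : Type u} {x : ι → B} (hx : EGA41.IsPBasis p A x)
    {E : Type v} [CommRing E] (φ : A₀ →+* E) (z : ι → E)
    (hz : ∀ i, z i ^ p = φ ⟨x i ^ p, pow_mem p A (x i)⟩) :
    ∃ Φ : B →+* E, (∀ a : A₀, Φ a = φ a) ∧ ∀ i, Φ (x i) = z i := by
  classical
  let α : MvPolynomial ι A₀ →+* B := eval₂Hom (algebraMap A₀ B) x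
  let β : MvPolynomial ι A₀ →+* E := eval₂Hom φ z
  let rel : ι → MvPolynomial ι A₀ := fun i => X i ^ p - C ⟨x i ^ p, pow_mem p A (x i)⟩
  let I : Submodule A₀ (MvPolynomial ι A₀) := (Ideal.span (Set.range rel)).restrictScalars A₀
  let mon : {e : ι →₀ ℕ // ∀ i, e i < p} → MvPolynomial ι A₀ := fun e => monomial e.1 1
  let S : Submodule A₀ (MvPolynomial ι A₀) := Submodule.span A₀ (Set.range mon) ⊔ I
  have hp := (Fact.out : p.Prime)
  have hmulX : ∀ i, ∀ q ∈ S, q * X i ∈ S := by
    intro i q hq
    obtain ⟨u, hu, w, hw, rfl⟩ := Submodule.mem_sup.mp hq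
    rw [add_mul]
    refine add_mem ?_ (Submodule.mem_sup_right (Ideal.mul_mem_right _ _ hw))
    clear hq
    induction hu using Submodule.span_induction with
    | zero => rw [zero_mul]; exact zero_mem _
    | add a b _ _ ha hb => rw [add_mul]; exact add_mem ha hb
    | smul a b _ hb => rw [smul_mul_assoc]; exact S.smul_mem a hb
    | mem y hy =>
      obtain ⟨⟨e, he⟩, rfl⟩ := hy
      simp only [mon]
      rw [X, monomial_mul, one_mul]
      by_cases hlt : e i + 1 < p
      · exact Submodule.mem_sup_left (Submodule.subset_span ⟨⟨e + Finsupp.single i 1, fun j => by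
          rcases eq_or_ne j i with rfl | hji
          · simpa using hlt
          · simpa [Finsupp.single_apply, hji.symm] using he j⟩, rfl⟩)
      · have hei : e i + 1 = p := by have := he i; omega
        let e' := e.erase i
        have he' : ∀ j, e' j < p := fun j => by
          rcases eq_or_ne j i with rfl | hji
          · simpa [e'] using hp.pos
          · simpa [e', hji] using he j
        have hdec : e + Finsupp.single i 1 = e' + Finsupp.single i p := by
          ext j
          rcases eq_or_ne j i with rfl | hji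
          · simp [e', hei]
          · simp [e', hji, Finsupp.single_apply, hji.symm]
        have : monomial (e + Finsupp.single i 1) (1 : A₀) =
            monomial e' 1 * rel i + (⟨x i ^ p, pow_mem p A (x i)⟩ : A₀) • monomial e' 1 := by
          rw [hdec, smul_eq_C_mul]
          simp only [rel, mul_sub, X_pow_eq_monomial, monomial_mul, one_mul]
          ring
        rw [this]
        exact add_mem (Submodule.mem_sup_right (Ideal.mul_mem_left _ _ (Ideal.subset_span ⟨i, rfl⟩)))
          (S.smul_mem _ (Submodule.mem_sup_left (Submodule.subset_span ⟨⟨e', he'⟩, rfl⟩)))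
  have hS : ∀ q, q ∈ S := fun q => by
    induction q using MvPolynomial.induction_on with
    | C a =>
      have h := S.smul_mem a (Submodule.mem_sup_left (Submodule.subset_span
        ⟨⟨0, fun _ => by simpa using hp.pos⟩, rfl⟩) : mon ⟨0, fun _ => by simpa using hp.pos⟩ ∈ S)
      simpa [mon, smul_eq_C_mul] using h
    | add a b ha hb => exact add_mem ha hb
    | mul_X a i ha => exact hmulX i a ha
  have hβrel : ∀ q ∈ I, β q = 0 := fun q hq => by
    refine (Ideal.span_le (I := RingHom.ker β)).mpr ?_ hq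
    rintro _ ⟨i, rfl⟩
    simp [rel, β, hz i]
  have hαrel : ∀ q ∈ I, α q = 0 := fun q hq => by
    refine (Ideal.span_le (I := RingHom.ker α)).mpr ?_ hq
    rintro _ ⟨i, rfl⟩
    simp only [rel, α, SetLike.mem_coe, RingHom.mem_ker, map_sub, map_pow, eval₂Hom_X', eval₂Hom_C]
    exact sub_self _
  have hαsurj : Function.Surjective α := fun b => by
    have hb : b ∈ Submodule.span A₀
        (Set.range fun e : {e : ι →₀ ℕ // ∀ i, e i < p} => EGA41.pMonomial x e.1) := hx.2 ▸ trivial
    induction hb using Submodule.span_induction with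
    | mem y hy =>
      obtain ⟨e, rfl⟩ := hy
      exact ⟨monomial e.1 1, by simp [α, EGA41.pMonomial]⟩
    | zero => exact ⟨0, map_zero _⟩
    | add u v _ _ hu hv =>
      obtain ⟨a, ha⟩ := hu
      obtain ⟨b, hb⟩ := hv
      exact ⟨a + b, by rw [map_add, ha, hb]⟩
    | smul a u _ hu =>
      obtain ⟨c, hc⟩ := hu
      exact ⟨C a * c, by rw [map_mul, hc]; simp [α]; rfl⟩
  have hker : RingHom.ker α ≤ RingHom.ker β := fun q hq => by
    obtain ⟨u, hu, w, hw, rfl⟩ := Submodule.mem_sup.mp (hS q)
    obtain ⟨l, rfl⟩ := Finsupp.mem_span_range_iff_exists_finsupp.mp hu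
    rw [RingHom.mem_ker, map_add, hαrel w hw, add_zero] at hq
    have hl : l = 0 := hx.1 (by
      rw [map_zero, ← hq]
      simp only [Finsupp.linearCombination_apply, Finsupp.sum, map_sum]
      refine Finset.sum_congr rfl fun e _ => ?_
      simp [mon, α, EGA41.pMonomial, smul_eq_C_mul]
      rfl)
    rw [RingHom.mem_ker, map_add, hβrel w hw, hl]
    simp
  refine ⟨α.liftOfSurjective hαsurj ⟨β, hker⟩, fun a => ?_, fun i => ?_⟩
  · conv_lhs => rw [show (a : B) = α (C a) by simp [α]]
    rw [RingHom.liftOfSurjective_comp_apply]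
    simp [β]
  · conv_lhs => rw [show x i = α (X i) from (eval₂Hom_X' _ _ i).symm]
    rw [RingHom.liftOfSurjective_comp_apply]
    simp [β]

section Derivation

omit [Fact p.Prime] in
/-- A derivation along a ring map gives a map to the trivial square-zero extension. -/
theorem exists_toTsze {R : Type*} [CommRing R] {L : Type v} [AddCommGroup L] [Module B L] [Module Bᵐᵒᵖ L]
    [IsCentralScalar B L] (f : R →+* B) (δ : R →+ L) (hmul : ∀ a b, δ (a * b) = f a • δ b + f b • δ a) :
    ∃ Φ : R →+* TrivSqZeroExt B L, ∀ r, Φ r = TrivSqZeroExt.inl (f r) + TrivSqZeroExt.inr (δ r) := by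
  have h1 : δ 1 = 0 := by
    have := hmul 1 1
    simpa using this
  exact ⟨RingHom.mk' ⟨⟨fun a => TrivSqZeroExt.inl (f a) + TrivSqZeroExt.inr (δ a), by simp [h1]⟩,
      fun a b => by
        ext
        · simp
        · simp [op_smul_eq_smul, hmul]⟩ fun a b => by ext <;> simp, fun _ => rfl⟩

omit [Fact p.Prime] in
theorem derivation_pow_eq_zero [CharP B p] {L : Type*} [AddCommGroup L] [Module B L]
    (D : Derivation ℤ B L) (b : B) : D (b ^ p) = 0 := by
  rw [Derivation.leibniz_pow, ← Nat.cast_smul_eq_nsmul B, CharP.cast_eq_zero, zero_smul]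

omit [Fact p.Prime] in
theorem derivation_eq_zero_on [CharP B p] {L : Type*} [AddCommGroup L] [Module B L]
    (D : Derivation ℤ B L) (hD : ∀ a, D (algebraMap A B a) = 0) {b : B} (hb : b ∈ A₀) : D b = 0 := by
  induction hb using Algebra.adjoin_induction with
  | mem y hy => obtain ⟨c, rfl⟩ := hy; exact derivation_pow_eq_zero p D c
  | algebraMap a => exact hD a
  | add u v _ _ hu hv => rw [map_add, hu, hv, add_zero]
  | mul u v _ _ hu hv => rw [D.leibniz, hu, hv, smul_zero, smul_zero, add_zero]

omit [Fact p.Prime] in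
theorem derivation_ext_of_generating {ι : Type u} {x : ι → B} (hx : EGA41.IsPGenerating p A x)
    {L : Type v} [AddCommGroup L] [Module B L] (D D' : Derivation ℤ B L)
    (h0 : ∀ a ∈ A₀, D a = D' a) (h1 : ∀ i, D (x i) = D' (x i)) : D = D' := by
  letI : Module Bᵐᵒᵖ L := Module.compHom L ((RingHom.id B).fromOpposite mul_comm)
  haveI : IsCentralScalar B L := ⟨fun _ _ => rfl⟩
  obtain ⟨Φ, hΦ⟩ := exists_toTsze (RingHom.id B) D.toLinearMap.toAddMonoidHom (fun a b => D.leibniz a b)
  obtain ⟨Ψ, hΨ⟩ := exists_toTsze (RingHom.id B) D'.toLinearMap.toAddMonoidHom (fun a b => D'.leibniz a b)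
  have h := ringHom_ext_of_generating p hx Φ Ψ
    (fun a ha => by rw [hΦ, hΨ]; simp [h0 a ha]) (fun i => by rw [hΦ, hΨ]; simp [h1 i])
  ext b
  have := congrArg TrivSqZeroExt.snd (DFunLike.congr_fun h b)
  rw [hΦ, hΨ] at this
  simpa using this

/-- Derivations extend along a `p`-basis. -/
theorem exists_derivation [CharP B p] {ι : Type u} {x : ι → B} (hx : EGA41.IsPBasis p A x)
    {L : Type v} [AddCommGroup L] [Module B L] (δ : A₀ →+ L)
    (hmul : ∀ a b : A₀, δ (a * b) = (a : B) • δ b + (b : B) • δ a)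
    (hδ : ∀ i, δ ⟨x i ^ p, pow_mem p A (x i)⟩ = 0) (y : ι → L) :
    ∃ D : Derivation ℤ B L, (∀ a : A₀, D a = δ a) ∧ ∀ i, D (x i) = y i := by
  letI : Module Bᵐᵒᵖ L := Module.compHom L ((RingHom.id B).fromOpposite mul_comm)
  haveI : IsCentralScalar B L := ⟨fun _ _ => rfl⟩
  have hp := (Fact.out : p.Prime)
  have : CharP (TrivSqZeroExt B L) p :=
    charP_of_injective_ringHom (f := TrivSqZeroExt.inlHom B L) TrivSqZeroExt.inl_injective p
  obtain ⟨φ, hφ⟩ := exists_toTsze (A₀).val.toRingHom δ hmul
  obtain ⟨Φ, hΦ, hΦx⟩ := exists_ringHom p hx φ (fun i => TrivSqZeroExt.inl (x i) + TrivSqZeroExt.inr (y i))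
    fun i => by
      rw [add_pow_char, show TrivSqZeroExt.inl (x i) ^ p = TrivSqZeroExt.inl (x i ^ p)
        from (map_pow (TrivSqZeroExt.inlHom B L) (x i) p).symm, show (TrivSqZeroExt.inr (y i) : TrivSqZeroExt B L) ^ p = 0
        from pow_eq_zero_of_le hp.two_le (by rw [sq, TrivSqZeroExt.inr_mul_inr]), add_zero]
      rw [hφ]
      simp [hδ]
  have hfst : ∀ b, (Φ b).fst = b := fun b => by
    refine DFunLike.congr_fun (f := (TrivSqZeroExt.fstHom B B L).toRingHom.comp Φ) (g := RingHom.id B) ?_ b
    refine ringHom_ext_of_generating p hx.2 _ _ (fun a ha => ?_) (fun i => ?_)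
    · simp [hΦ ⟨a, ha⟩, hφ]
    · simp [hΦx]
  refine ⟨Derivation.mk' ((TrivSqZeroExt.sndHom B L).toAddMonoidHom.comp Φ.toAddMonoidHom).toIntLinearMap
    fun a b => ?_, fun a => ?_, fun i => ?_⟩
  · simp [hfst, op_smul_eq_smul]
  · simp [hΦ, hφ]
  · simp [hΦx]

/-- `A`-derivations are determined by their values on `p`-generators. -/
theorem derivationOver_ext [CharP B p] {ι : Type u} {x : ι → B} (hx : EGA41.IsPGenerating p A x)
    {L : Type v} [AddCommGroup L] [Module B L] [Module A L] [IsScalarTower A B L]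
    (D D' : Derivation A B L) (h1 : ∀ i, D (x i) = D' (x i)) : D = D' := by
  let toZ : Derivation A B L → Derivation ℤ B L := fun E =>
    Derivation.mk' E.toLinearMap.toAddMonoidHom.toIntLinearMap fun a b => E.leibniz a b
  have h := derivation_ext_of_generating p hx (toZ D) (toZ D') (fun a ha => ?_) h1
  · ext b
    exact DFunLike.congr_fun h b
  · rw [derivation_eq_zero_on p (toZ D) (fun a => D.map_algebraMap a) ha,
      derivation_eq_zero_on p (toZ D') (fun a => D'.map_algebraMap a) ha]

/-- `A`-derivations take arbitrary values on a `p`-basis. -/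
theorem exists_derivationOver [CharP B p] {ι : Type u} {x : ι → B} (hx : EGA41.IsPBasis p A x)
    {L : Type v} [AddCommGroup L] [Module B L] [Module A L] [IsScalarTower A B L] (y : ι → L) :
    ∃ D : Derivation A B L, ∀ i, D (x i) = y i := by
  obtain ⟨D, hD, hDx⟩ := exists_derivation p hx (0 : A₀ →+ L) (by simp) (fun i => rfl) y
  refine ⟨Derivation.mk' { toFun := D, map_add' := D.map_add, map_smul' := fun a b => ?_ }
    fun a b => D.leibniz a b, hDx⟩
  have h0 : D (algebraMap A B a) = 0 := hD ⟨algebraMap A B a, Subalgebra.algebraMap_mem _ a⟩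
  rw [Algebra.smul_def, D.leibniz, h0, smul_zero, add_zero, algebraMap_smul]
  rfl

omit [Fact p.Prime] in
/-- When all `p`-th powers come from `A`, so does every element of `A[B^p]`. -/
theorem exists_of_mem (hpow : ∀ b : B, b ^ p ∈ Set.range (algebraMap A B)) (a : A₀) :
    ∃ c, algebraMap A B c = a := by
  have : A₀ ≤ ⊥ := Algebra.adjoin_le (by
    rintro _ ⟨b, rfl⟩
    exact Algebra.mem_bot.mpr (hpow b))
  exact Algebra.mem_bot.mp (this a.2)

end Derivation

end Groth.Agent.Alg.PBasis
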