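import Groth.Agent.Alg.PBasis.Basic
import Groth.Agent.Alg.PthRoot.Section
import Mathlib.RingTheory.Kaehler.Basic
import Mathlib.LinearAlgebra.Basis.VectorSpace
import Mathlib.FieldTheory.IntermediateField.Basic

/-! `p`-bases of field extensions and differentials. -/

universe u

namespace Groth.Agent.Alg.PBasis

variable (p : ℕ) [Fact p.Prime] {k K : Type u} [Field k] [Field K] [Algebra k K] [CharP K p]
  {ι : Type u} (x : ι → K)

local notation "K₀" => EGA41.pPowerSubalgebra p k K

omit [Fact p.Prime] [CharP K p] in
theorem derivationOfRingDerivation {L : Subalgebra k K} (D : Derivation ℤ K K) (h : ∀ a ∈ L, D a = 0) :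
    ∃ D' : Derivation k K K, ∀ a, D' a = D a :=
  ⟨Derivation.mk'
    { toFun := D
      map_add' := D.map_add
      map_smul' := fun a b => by
        rw [Algebra.smul_def, D.leibniz, h _ (L.algebraMap_mem a), smul_zero, add_zero]
        simp [Algebra.smul_def] }
    fun a b => D.leibniz a b, fun _ => rfl⟩

/-- `p`-generators are families with spanning differentials. -/
theorem generating_iff : EGA41.IsPGenerating p k x ↔
    Submodule.span K (Set.range fun i => KaehlerDifferential.D k K (x i)) = ⊤ := by
  constructor
  · intro hx
    let S := Submodule.span K (Set.range fun i => KaehlerDifferential.D k K (x i))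
    have h : (S.mkQ.compDer (KaehlerDifferential.D k K)) = 0 := derivationOver_ext p hx _ _ fun i => by
      simpa [S] using Submodule.subset_span (R := K) (Set.mem_range_self (f := fun i => KaehlerDifferential.D k K (x i)) i)
    rw [eq_top_iff, ← KaehlerDifferential.span_range_derivation, Submodule.span_le]
    rintro _ ⟨b, rfl⟩
    have := DFunLike.congr_fun h b
    simpa [S] using this
  · intro hx
    let P := Submodule.span K₀ (Set.range fun e : {e : ι →₀ ℕ // ∀ i, e i < p} => EGA41.pMonomial x e.1)
    let L := Algebra.adjoin k (Set.range (fun b : K => b ^ p) ∪ Set.range x)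
    have hL : ∀ c : K, c ∈ L := fun c => by
      by_contra hc
      obtain ⟨D, hD, hDc⟩ := PthRoot.exists_derivation_of_notMem p L.toSubring
        (fun b => Algebra.subset_adjoin (Or.inl ⟨b, rfl⟩)) hc
      obtain ⟨D', hD'⟩ := derivationOfRingDerivation D hD
      have h0 : D'.liftKaehlerDifferential = 0 := by
        refine LinearMap.ext_on_range hx fun i => ?_
        simp [hD', hD _ (Algebra.subset_adjoin (Or.inr ⟨i, rfl⟩))]
      have := D'.liftKaehlerDifferential_comp_D c
      rw [h0, LinearMap.zero_apply, hD', hDc] at this
      exact zero_ne_one this
    have hP1 : (1 : K) ∈ P := Submodule.subset_span ⟨⟨0, fun _ => (Fact.out : p.Prime).pos⟩, by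
      simp [EGA41.pMonomial]⟩
    have hmul : ∀ i, ∀ u ∈ P, x i * u ∈ P := by
      intro i u hu
      induction hu using Submodule.span_induction with
      | zero => rw [mul_zero]; exact zero_mem _
      | add a b _ _ ha hb => rw [mul_add]; exact add_mem ha hb
      | smul a b _ hb => rw [mul_smul_comm]; exact P.smul_mem a hb
      | mem y hy =>
        obtain ⟨⟨e, he⟩, rfl⟩ := hy
        have hmon : x i * EGA41.pMonomial x e = EGA41.pMonomial x (e + Finsupp.single i 1) := by
          rw [EGA41.pMonomial, EGA41.pMonomial, Finsupp.prod_add_index' (by simp) (by simp [pow_add]),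
            Finsupp.prod_single_index (by simp), pow_one, mul_comm]
        rw [hmon]
        by_cases hlt : e i + 1 < p
        · refine Submodule.subset_span ⟨⟨e + Finsupp.single i 1, fun j => ?_⟩, rfl⟩
          rcases eq_or_ne j i with rfl | hji
          · simpa using hlt
          · simpa [hji.symm] using he j
        · have hei : e i + 1 = p := by have := he i; omega
          have he' : ∀ j, e.erase i j < p := fun j => by
            rcases eq_or_ne j i with rfl | hji
            · simpa using (Fact.out : p.Prime).pos
            · simpa [hji] using he j
          have : EGA41.pMonomial x (e + Finsupp.single i 1) =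
              (⟨x i ^ p, pow_mem p k (x i)⟩ : K₀) • EGA41.pMonomial x (e.erase i) := by
            have hdec : e + Finsupp.single i 1 = e.erase i + Finsupp.single i p := by
              ext j
              rcases eq_or_ne j i with rfl | hji
              · simp [hei]
              · simp [hji, hji.symm]
            rw [hdec, EGA41.pMonomial, Finsupp.prod_add_index' (by simp) (by simp [pow_add]),
              Finsupp.prod_single_index (by simp), mul_comm]
            rfl
          rw [this]
          exact P.smul_mem _ (Submodule.subset_span ⟨⟨e.erase i, he'⟩, rfl⟩)
    have hall : ∀ b ∈ L, ∀ u ∈ P, b * u ∈ P := by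
      intro b hb
      induction hb using Algebra.adjoin_induction with
      | mem y hy =>
        intro u hu
        rcases hy with ⟨c, rfl⟩ | ⟨i, rfl⟩
        · exact P.smul_mem (⟨c ^ p, pow_mem p k c⟩ : K₀) hu
        · exact hmul i u hu
      | algebraMap a => exact fun u hu => P.smul_mem (algebraMap k K₀ a) hu
      | add a b _ _ ha hb => intro u hu; rw [add_mul]; exact add_mem (ha u hu) (hb u hu)
      | mul a b _ _ ha hb => intro u hu; rw [mul_assoc]; exact ha _ (hb u hu)
    refine eq_top_iff.mpr fun b _ => ?_
    simpa using hall b (hL b) 1 hP1

/-- `p`-free families are families with independent differentials. -/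
theorem independent_iff : EGA41.IsPIndependent p k x ↔
    LinearIndependent K (fun i => KaehlerDifferential.D k K (x i)) := by
  classical
  constructor
  · intro hx
    have hdual : ∀ j, ∃ D : Derivation k K K, ∀ i, D (x i) = if i = j then 1 else 0 := fun j => by
      let f := fun e : {e : ι →₀ ℕ // ∀ i, e i < p} => EGA41.pMonomial x e.1
      let P := Submodule.span K₀ (f '' {e | e.1 j = 0})
      let L := Algebra.adjoin k (Set.range (fun b : K => b ^ p) ∪ x '' {i | i ≠ j})
      have hxj : x j ∉ P := by
        have h := hx.notMem_span_image (s := {e : {e : ι →₀ ℕ // ∀ i, e i < p} | e.1 j = 0})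
          (x := ⟨Finsupp.single j 1, fun i => by
            rw [Finsupp.single_apply]; split <;> simp [(Fact.out : p.Prime).pos, (Fact.out : p.Prime).one_lt]⟩)
          (by simp)
        simpa [EGA41.pMonomial, P, f] using h
      have hP1 : (1 : K) ∈ P := Submodule.subset_span ⟨⟨0, fun _ => (Fact.out : p.Prime).pos⟩, by simp, by
        simp [f, EGA41.pMonomial]⟩
      have hmul : ∀ i, i ≠ j → ∀ u ∈ P, x i * u ∈ P := by
        intro i hij u hu
        induction hu using Submodule.span_induction with
        | zero => rw [mul_zero]; exact zero_mem _
        | add a b _ _ ha hb => rw [mul_add]; exact add_mem ha hb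
        | smul a b _ hb => rw [mul_smul_comm]; exact P.smul_mem a hb
        | mem y hy =>
          obtain ⟨⟨e, he⟩, hej : e j = 0, rfl⟩ := hy
          simp only [f]
          have hmon : x i * EGA41.pMonomial x e = EGA41.pMonomial x (e + Finsupp.single i 1) := by
            rw [EGA41.pMonomial, EGA41.pMonomial, Finsupp.prod_add_index' (by simp) (by simp [pow_add]),
              Finsupp.prod_single_index (by simp), pow_one, mul_comm]
          rw [hmon]
          by_cases hlt : e i + 1 < p
          · refine Submodule.subset_span ⟨⟨e + Finsupp.single i 1, fun l => ?_⟩, ?_, rfl⟩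
            · rcases eq_or_ne l i with rfl | hli
              · simpa using hlt
              · simpa [hli.symm] using he l
            · simp [hej, hij]
          · have hei : e i + 1 = p := by have := he i; omega
            have he' : ∀ l, e.erase i l < p := fun l => by
              rcases eq_or_ne l i with rfl | hli
              · simpa using (Fact.out : p.Prime).pos
              · simpa [hli] using he l
            have hdec : e + Finsupp.single i 1 = e.erase i + Finsupp.single i p := by
              ext l
              rcases eq_or_ne l i with rfl | hli
              · simp [hei]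
              · simp [hli, hli.symm]
            rw [hdec, EGA41.pMonomial, Finsupp.prod_add_index' (by simp) (by simp [pow_add]),
              Finsupp.prod_single_index (by simp), mul_comm]
            exact P.smul_mem (⟨x i ^ p, pow_mem p k (x i)⟩ : K₀)
              (Submodule.subset_span ⟨⟨e.erase i, he'⟩, by simp [hij.symm, hej], rfl⟩)
      have hall : ∀ b ∈ L, ∀ u ∈ P, b * u ∈ P := by
        intro b hb
        induction hb using Algebra.adjoin_induction with
        | mem y hy =>
          intro u hu
          rcases hy with ⟨c, rfl⟩ | ⟨i, hi, rfl⟩
          · exact P.smul_mem (⟨c ^ p, pow_mem p k c⟩ : K₀) hu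
          · exact hmul i hi u hu
        | algebraMap a => exact fun u hu => P.smul_mem (algebraMap k K₀ a) hu
        | add a b _ _ ha hb => intro u hu; rw [add_mul]; exact add_mem (ha u hu) (hb u hu)
        | mul a b _ _ ha hb => intro u hu; rw [mul_assoc]; exact ha _ (hb u hu)
      obtain ⟨D, hD, hDc⟩ := PthRoot.exists_derivation_of_notMem p L.toSubring
        (fun b => Algebra.subset_adjoin (Or.inl ⟨b, rfl⟩)) (c := x j)
        (fun h => hxj (by simpa using hall _ h 1 hP1))
      obtain ⟨D', hD'⟩ := derivationOfRingDerivation D hD
      refine ⟨D', fun i => ?_⟩
      rw [hD']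
      split
      · subst i; exact hDc
      · exact hD _ (Algebra.subset_adjoin (Or.inr ⟨i, ‹_›, rfl⟩))
    refine linearIndependent_iff.mpr fun l hl => ?_
    ext j
    obtain ⟨D, hD⟩ := hdual j
    have h := congrArg D.liftKaehlerDifferential hl
    simpa [Finsupp.linearCombination_apply, Finsupp.sum, map_sum, hD] using h
  · intro hx
    have hdual : ∀ j, ∃ D : Derivation k K K, ∀ i, D (x i) = if i = j then 1 else 0 := fun j => by
      obtain ⟨φ, hφ⟩ := LinearMap.exists_extend ((Finsupp.lapply j).comp hx.repr)
      refine ⟨φ.compDer (KaehlerDifferential.D k K), fun i => ?_⟩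
      have := DFunLike.congr_fun hφ ⟨_, Submodule.subset_span (Set.mem_range_self i)⟩
      simp only [LinearMap.comp_apply, Submodule.coe_subtype, Finsupp.lapply_apply] at this
      rw [hx.repr_eq_single i _ rfl, Finsupp.single_apply] at this
      exact this
    have key : ∀ N : ℕ, ∀ l : (ι →₀ ℕ) →₀ K₀, (∀ e ∈ l.support, (∀ i, e i < p) ∧ e.degree ≤ N) →
        (l.sum fun e a => (a : K) * EGA41.pMonomial x e) = 0 → l = 0 := by
      intro N
      induction N with
      | zero =>
        intro l hl h
        have hsupp : ∀ e, e ≠ 0 → l e = 0 := fun e he => by
          by_contra h0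
          exact he ((Finsupp.degree_eq_zero_iff e).mp (Nat.le_zero.mp (hl e (Finsupp.mem_support_iff.mpr h0)).2))
        have hl0 : l = Finsupp.single 0 (l 0) := Finsupp.ext fun e => by
          rcases eq_or_ne e 0 with rfl | he
          · simp
          · simp [hsupp e he, he.symm]
        rw [hl0, Finsupp.sum_single_index (by simp)] at h
        rw [hl0]
        simp [EGA41.pMonomial] at h ⊢
        exact h
      | succ N ih =>
        intro l hl h
        have hz : ∀ (e : ι →₀ ℕ) (j : ι), e j ≠ 0 → l e = 0 := fun e j hej => by
          obtain ⟨D, hD⟩ := hdual j
          have hDa : ∀ a : K₀, D (a : K) = 0 := fun a => by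
            refine derivation_eq_zero_on p
              (Derivation.mk' D.toLinearMap.toAddMonoidHom.toIntLinearMap fun a b => D.leibniz a b)
              (fun c => D.map_algebraMap c) a.2
          let l' : (ι →₀ ℕ) →₀ K₀ :=
            l.sum fun d a => Finsupp.single (d - Finsupp.single j 1) ((d j : K₀) * a)
          have hmon : ∀ e' : ι →₀ ℕ, D (EGA41.pMonomial x (e' + Finsupp.single j 1)) =
              ((e' j + 1 : ℕ) : K) * EGA41.pMonomial x e' := fun e' => by
            have hoff : ∀ s : ι →₀ ℕ, s j = 0 → D (EGA41.pMonomial x s) = 0 := fun s => by
              induction s using Finsupp.induction with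
              | zero => simp [EGA41.pMonomial]
              | single_add i b s hi hb ih =>
                intro hs
                have hij : i ≠ j := fun h => by subst h; simp [Finsupp.notMem_support_iff.mp hi, hb] at hs
                rw [EGA41.pMonomial, Finsupp.prod_add_index' (by simp) (by simp [pow_add]),
                  Finsupp.prod_single_index (by simp), D.leibniz, D.leibniz_pow, hD i, if_neg hij,
                  ← EGA41.pMonomial, ih (by simpa [hij.symm] using hs)]
                simp
            have hsplit : e' = e'.erase j + Finsupp.single j (e' j) := (Finsupp.erase_add_single j e').symm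
            conv_lhs => rw [hsplit, add_assoc, ← Finsupp.single_add]
            conv_rhs => arg 2; rw [hsplit]
            rw [EGA41.pMonomial, EGA41.pMonomial, Finsupp.prod_add_index' (by simp) (by simp [pow_add]),
              Finsupp.prod_add_index' (by simp) (by simp [pow_add]), Finsupp.prod_single_index (by simp),
              Finsupp.prod_single_index (by simp), D.leibniz, ← EGA41.pMonomial, hoff _ (by simp),
              D.leibniz_pow, hD j, if_pos rfl]
            simp only [smul_zero, add_zero, Nat.add_sub_cancel, smul_eq_mul, nsmul_eq_mul, mul_one]
            ring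
          have hder : ∀ d : ι →₀ ℕ, D (EGA41.pMonomial x d) =
              (d j : K) * EGA41.pMonomial x (d - Finsupp.single j 1) := fun d => by
            by_cases hd : d j = 0
            · have hDd : D (EGA41.pMonomial x d) = 0 := by
                have := hmon
                clear this
                induction d using Finsupp.induction with
                | zero => simp [EGA41.pMonomial]
                | single_add i b s hi hb ihd =>
                  have hij : i ≠ j := fun h => by subst h; simp [Finsupp.notMem_support_iff.mp hi, hb] at hd
                  rw [EGA41.pMonomial, Finsupp.prod_add_index' (by simp) (by simp [pow_add]),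
                    Finsupp.prod_single_index (by simp), D.leibniz, D.leibniz_pow, hD i, if_neg hij,
                    ← EGA41.pMonomial, ihd (by simpa [hij.symm] using hd)]
                  simp
              simp [hDd, hd]
            · have he' : d - Finsupp.single j 1 + Finsupp.single j 1 = d := by
                ext i; rcases eq_or_ne i j with rfl | hi
                · simp; omega
                · simp [hi.symm]
              have h1 : (d - Finsupp.single j (1 : ℕ) : ι →₀ ℕ) j + 1 = d j := by simp; omega
              conv_lhs => rw [← he']
              rw [hmon, h1]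
          have h' : (l'.sum fun e a => (a : K) * EGA41.pMonomial x e) = 0 := by
            have hd := congrArg D h
            rw [map_zero, Finsupp.sum, map_sum] at hd
            rw [← hd, Finsupp.sum_sum_index (by simp) (by simp [add_mul]), Finsupp.sum]
            refine Finset.sum_congr rfl fun d _ => ?_
            rw [Finsupp.sum_single_index (by simp), D.leibniz, hDa, hder]
            simp
            ring
          have happ : ∀ e', l' e' = ∑ d ∈ l.support,
              if d - Finsupp.single j 1 = e' then (d j : K₀) * l d else 0 := fun e' => by
            simp [l', Finsupp.sum, Finsupp.finsetSum_apply, Finsupp.single_apply]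
          have hback : ∀ d : ι →₀ ℕ, d j ≠ 0 → d - Finsupp.single j 1 + Finsupp.single j 1 = d := fun d hd => by
            ext i; rcases eq_or_ne i j with rfl | hi
            · simp; omega
            · simp [hi.symm]
          have hl' : ∀ e' ∈ l'.support, (∀ i, e' i < p) ∧ e'.degree ≤ N := fun e' he' => by
            rw [Finsupp.mem_support_iff, happ] at he'
            obtain ⟨d, hd, hne⟩ := Finset.exists_ne_zero_of_sum_ne_zero he'
            obtain ⟨rfl, hne⟩ := ne_eq _ _ ▸ (ite_ne_right_iff.mp hne)
            have hdj : d j ≠ 0 := fun h0 => by simp [h0] at hne
            obtain ⟨h1, h2⟩ := hl d hd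
            refine ⟨fun i => lt_of_le_of_lt (by simp) (h1 i), ?_⟩
            rw [← hback d hdj, map_add, Finsupp.degree_single] at h2
            omega
          have := DFunLike.congr_fun (ih l' hl' h') (e - Finsupp.single j 1)
          rw [happ, Finsupp.zero_apply, Finset.sum_eq_single e (fun d _ hde => ?_) (fun he => by
            simp [Finsupp.notMem_support_iff.mp he]), if_pos rfl] at this
          · by_contra hle
            have hlt := (hl e (Finsupp.mem_support_iff.mpr hle)).1 j
            have hK : ((e j : ℕ) : K) ≠ 0 := fun h => by
              have := Nat.le_of_dvd (by omega) ((CharP.cast_eq_zero_iff K p (e j)).mp h); omega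
            exact hle (Subtype.ext ((mul_eq_zero.mp (congrArg Subtype.val this)).resolve_left (by simpa using hK)))
          · split
            · rename_i heq
              by_cases hdj : d j = 0
              · simp [hdj]
              · exact absurd (by rw [← hback d hdj, heq, hback e hej]) hde
            · rfl
        refine ih l (fun e he => ?_) h
        refine ⟨(hl e he).1, ?_⟩
        by_contra hN
        obtain ⟨j, hj⟩ : ∃ j, e j ≠ 0 := by
          by_contra hh; push Not at hh
          exact hN (by simp [show e = 0 from Finsupp.ext hh])
        exact Finsupp.mem_support_iff.mp he (hz e j hj)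
    rw [EGA41.IsPIndependent, linearIndependent_iff]
    intro l hl
    have := key ((l.mapDomain Subtype.val).support.sup Finsupp.degree) (l.mapDomain Subtype.val) (fun e he => by
      obtain ⟨a, -, rfl⟩ := Finset.mem_image.mp (Finsupp.mapDomain_support he)
      exact ⟨a.2, Finset.le_sup he⟩) (by
      rw [Finsupp.sum_mapDomain_index (by simp) (by simp [add_mul]), ← hl, Finsupp.linearCombination_apply]
      rfl)
    exact Finsupp.mapDomain_injective Subtype.val_injective (this.trans Finsupp.mapDomain_zero.symm)

end Groth.Agent.Alg.PBasis
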