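import Groth.Agent.Alg.PBasis.Field
import Mathlib.RingTheory.Nilpotent.GeometricallyReduced
import Mathlib.RingTheory.Smooth.Field
import Mathlib.RingTheory.Smooth.Basic
import Mathlib.Algebra.CharP.Algebra
import Mathlib.LinearAlgebra.TensorProduct.Basis
import Mathlib.FieldTheory.IsAlgClosed.AlgebraicClosure

/-! MacLane's criterion: geometrically reduced field extensions, differentials, formal smoothness. -/

open TensorProduct

universe u

namespace Groth.Agent.Alg.PBasis

variable (p : ℕ) [Fact p.Prime]

/-- The subfield of `p`-th powers. -/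
abbrev powField (K : Type u) [Field K] [CharP K p] : Subfield K := (frobenius K p).fieldRange

section absolute

variable {K : Type u} [Field K] [CharP K p] {A : Type u} [CommRing A] [Algebra A K]
  (hA : ∀ a : A, ∃ b : K, b ^ p = algebraMap A K a)

include hA

omit [Fact p.Prime] in
theorem derivation_vanishes {M : Type*} [AddCommGroup M] [Module K M] (D : Derivation ℤ K M) (a : A) :
    D (algebraMap A K a) = 0 := by
  obtain ⟨b, hb⟩ := hA a
  rw [← hb, derivation_pow_eq_zero p D b]

omit [Fact p.Prime] in
/-- Absolute differentials equal differentials relative to any ring of `p`-th powers. -/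
theorem exists_kaehlerEquiv : ∃ e : Ω[K⁄ℤ] ≃ₗ[K] Ω[K⁄A],
    ∀ x, e (KaehlerDifferential.D ℤ K x) = KaehlerDifferential.D A K x := by
  let D₁ : Derivation ℤ K (Ω[K⁄A]) :=
    Derivation.mk' (KaehlerDifferential.D A K).toLinearMap.toAddMonoidHom.toIntLinearMap
      fun a b => (KaehlerDifferential.D A K).leibniz a b
  let D₂ : Derivation A K (Ω[K⁄ℤ]) := Derivation.mk'
    { toFun := KaehlerDifferential.D ℤ K
      map_add' := (KaehlerDifferential.D ℤ K).map_add
      map_smul' := fun a b => by
        rw [Algebra.smul_def, (KaehlerDifferential.D ℤ K).leibniz, derivation_vanishes p hA, smul_zero, add_zero]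
        exact algebraMap_smul K a _ }
    fun a b => (KaehlerDifferential.D ℤ K).leibniz a b
  refine ⟨LinearEquiv.ofLinear D₁.liftKaehlerDifferential D₂.liftKaehlerDifferential ?_ ?_,
    fun x => D₁.liftKaehlerDifferential_comp_D x⟩
  · refine Derivation.liftKaehlerDifferential_unique _ _ (Derivation.ext fun x => ?_)
    change D₁.liftKaehlerDifferential (D₂.liftKaehlerDifferential (KaehlerDifferential.D A K x)) = _
    rw [Derivation.liftKaehlerDifferential_comp_D]
    exact D₁.liftKaehlerDifferential_comp_D x
  · refine Derivation.liftKaehlerDifferential_unique _ _ (Derivation.ext fun x => ?_)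
    change D₂.liftKaehlerDifferential (D₁.liftKaehlerDifferential (KaehlerDifferential.D ℤ K x)) = _
    rw [Derivation.liftKaehlerDifferential_comp_D]
    exact D₂.liftKaehlerDifferential_comp_D x

end absolute

variable {k K : Type u} [Field k] [CharP k p] [Field K] [Algebra k K]

local notation "P" => powField p k

theorem powField_hA : ∀ a : P, ∃ b : k, b ^ p = algebraMap P k a := fun a => a.2

theorem powField_hA' [CharP K p] : ∀ a : P, ∃ b : K, b ^ p = algebraMap P K a := fun a => by
  obtain ⟨b, hb⟩ := a.2
  refine ⟨algebraMap k K b, ?_⟩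
  rw [← map_pow, ← frobenius_def]
  exact congrArg (algebraMap k K) hb

theorem mem_pPower (a : EGA41.pPowerSubalgebra p P k) : ∃ b : k, b ^ p = a := by
  have h : ∀ x ∈ EGA41.pPowerSubalgebra p P k, x ∈ (frobenius k p).range := fun x hx => by
    induction hx using Algebra.adjoin_induction with
    | mem y hy => obtain ⟨b, rfl⟩ := hy; exact ⟨b, by rw [frobenius_def]⟩
    | algebraMap a => exact a.2
    | add a b _ _ ha hb => exact add_mem ha hb
    | mul a b _ _ ha hb => exact mul_mem ha hb
  obtain ⟨b, hb⟩ := h a a.2
  exact ⟨b, by rw [← hb, frobenius_def]⟩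

theorem mem_pPower' [CharP K p] (a : EGA41.pPowerSubalgebra p P K) : ∃ b : K, b ^ p = a := by
  have h : ∀ x ∈ EGA41.pPowerSubalgebra p P K, x ∈ (frobenius K p).range := fun x hx => by
    induction hx using Algebra.adjoin_induction with
    | mem y hy => obtain ⟨b, rfl⟩ := hy; exact ⟨b, by rw [frobenius_def]⟩
    | algebraMap a =>
      obtain ⟨b, hb⟩ := powField_hA' p (K := K) a
      exact ⟨b, by rw [frobenius_def, hb]⟩
    | add a b _ _ ha hb => exact add_mem ha hb
    | mul a b _ _ ha hb => exact mul_mem ha hb
  obtain ⟨b, hb⟩ := h a a.2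
  exact ⟨b, by rw [← hb, frobenius_def]⟩

variable (k) in
/-- Every field of characteristic `p` has an absolute `p`-basis. -/
theorem exists_pBasis : ∃ S : Set k, EGA41.IsPBasis p P (Subtype.val : S → k) := by
  have hspan : ⊤ ≤ Submodule.span k (Set.range fun a : k => KaehlerDifferential.D P k a) := by
    rw [KaehlerDifferential.span_range_derivation]
  have h0 : LinearIndepOn k (fun a => KaehlerDifferential.D P k a) (∅ : Set k) := linearIndepOn_empty k _
  refine ⟨h0.extend (Set.empty_subset Set.univ), (independent_iff p _).mpr (h0.linearIndepOn_extend _),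
    (generating_iff p _).mpr (eq_top_iff.mpr (hspan.trans (Submodule.span_le.mpr ?_)))⟩
  rintro _ ⟨a, rfl⟩
  have h1 := h0.image_subset_span_image_extend (Set.empty_subset Set.univ) ⟨a, trivial, rfl⟩
  rwa [Set.image_eq_range] at h1

variable (k K) in
/-- MacLane's condition. -/
def IsMacLane : Prop :=
  ∀ (ι : Type u) (b : ι → K), LinearIndependent k b → LinearIndependent k (fun i => b i ^ p : ι → K)

variable [CharP K p]

omit [CharP K p] in
theorem exists_expansion {S : Set k}
    (hS : EGA41.IsPBasis p P (Subtype.val : S → k)) (a : k) : ∃ c : {e : S →₀ ℕ // ∀ i, e i < p} →₀ k,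
    a = c.sum fun e r => r ^ p * EGA41.pMonomial Subtype.val e.1 := by
  have hmem : a ∈ Submodule.span (EGA41.pPowerSubalgebra p P k)
      (Set.range fun e : {e : S →₀ ℕ // ∀ i, e i < p} => EGA41.pMonomial Subtype.val e.1) := hS.2 ▸ Submodule.mem_top
  obtain ⟨l, hl⟩ := Finsupp.mem_span_range_iff_exists_finsupp.mp hmem
  choose r hr using fun q : EGA41.pPowerSubalgebra p P k => mem_pPower p q
  have hr0 : r 0 = 0 := by
    have := hr 0
    exact (pow_eq_zero_iff (Fact.out : p.Prime).ne_zero).mp this
  refine ⟨l.mapRange r hr0, ?_⟩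
  rw [Finsupp.sum_mapRange_index (by simp [(Fact.out : p.Prime).ne_zero]), ← hl]
  refine Finsupp.sum_congr fun e _ => ?_
  rw [hr]
  rfl

theorem macLane_of_independent {S : Set k}
    (hS : EGA41.IsPBasis p P (Subtype.val : S → k))
    (h : EGA41.IsPIndependent p P (fun s : S => algebraMap k K s)) : IsMacLane p k K := by
  intro ι b hb
  rw [linearIndependent_iff']
  intro t a ha i hi
  choose c hc using fun i => exists_expansion p hS (a i)
  let mon := fun e : {e : S →₀ ℕ // ∀ i, e i < p} => EGA41.pMonomial (fun s : S => algebraMap k K s) e.1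
  have hmon : ∀ e : {e : S →₀ ℕ // ∀ i, e i < p},
      algebraMap k K (EGA41.pMonomial Subtype.val e.1) = mon e := fun e => by
    simp [mon, EGA41.pMonomial, map_finsuppProd, map_pow]
  classical
  let u : {e : S →₀ ℕ // ∀ i, e i < p} → K := fun e => ∑ j ∈ t, c j e • b j
  let U := t.biUnion fun j => (c j).support
  have h1 : ∑ e ∈ U, u e ^ p * mon e = 0 := by
    rw [← ha]
    simp only [u, sum_pow_char p, Finset.sum_mul]
    rw [Finset.sum_comm]
    refine Finset.sum_congr rfl fun j hj => ?_
    conv_rhs => rw [hc j, Finsupp.sum_of_support_subset _ (Finset.subset_biUnion_of_mem (fun j => (c j).support) hj : (c j).support ⊆ U) _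
      (fun e _ => by simp [(Fact.out : p.Prime).ne_zero]), Finset.sum_smul]
    refine Finset.sum_congr rfl fun e _ => ?_
    rw [Algebra.smul_def, Algebra.smul_def, mul_pow, map_mul, map_pow, hmon]
    ring
  have h2 : ∀ e, u e = 0 := by
    intro e
    by_cases he : e ∈ U
    · have h3 := linearIndependent_iff'.mp h U (fun e => ⟨u e ^ p, pow_mem p P (u e)⟩) h1 e he
      exact (pow_eq_zero_iff (Fact.out : p.Prime).ne_zero).mp (congrArg Subtype.val h3)
    · refine Finset.sum_eq_zero fun j hj => ?_
      rw [Finsupp.notMem_support_iff.mp fun h' => he (Finset.mem_biUnion.mpr ⟨j, hj, h'⟩), zero_smul]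
  rw [hc i]
  refine Finset.sum_eq_zero fun e _ => ?_
  beta_reduce
  rw [linearIndependent_iff'.mp hb t (fun j => c j e) (h2 e) i hi, zero_pow (Fact.out : p.Prime).ne_zero, zero_mul]

theorem independent_of_macLane {S : Set k}
    (hS : EGA41.IsPBasis p P (Subtype.val : S → k)) (h : IsMacLane p k K) :
    EGA41.IsPIndependent p P (fun s : S => algebraMap k K s) := by
  rw [EGA41.IsPIndependent, linearIndependent_iff']
  intro t a ha e he
  choose r hr using fun q : EGA41.pPowerSubalgebra p P K => mem_pPower' p q
  let bb := Module.Free.chooseBasis k K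
  have hmon : ∀ e : {e : S →₀ ℕ // ∀ i, e i < p}, algebraMap k K (EGA41.pMonomial Subtype.val e.1) =
      EGA41.pMonomial (fun s : S => algebraMap k K s) e.1 := fun e => by
    simp [EGA41.pMonomial, map_finsuppProd, map_pow]
  classical
  let T := t.biUnion fun e => (bb.repr (r (a e))).support
  let co : Module.Free.ChooseBasisIndex k K → k := fun i =>
    ∑ e ∈ t, (bb.repr (r (a e)) i) ^ p * EGA41.pMonomial Subtype.val e.1
  have h1 : ∑ i ∈ T, co i • bb i ^ p = 0 := by
    rw [← ha]
    simp only [co, Finset.sum_smul]
    rw [Finset.sum_comm]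
    refine Finset.sum_congr rfl fun e he => ?_
    conv_rhs =>
      rw [Algebra.smul_def]
      arg 1
      change ((a e : K))
      rw [← hr (a e), ← bb.linearCombination_repr (r (a e)), Finsupp.linearCombination_apply,
        Finsupp.sum_of_support_subset _ (Finset.subset_biUnion_of_mem (fun e => (bb.repr (r (a e))).support) he)
          _ (fun i _ => by simp), sum_pow_char p]
    rw [Finset.sum_mul]
    refine Finset.sum_congr rfl fun i _ => ?_
    rw [Algebra.smul_def, Algebra.smul_def, mul_pow, map_mul, map_pow, hmon]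
    ring
  have h2 : ∀ i ∈ T, co i = 0 := linearIndependent_iff'.mp (h _ bb bb.linearIndependent) T co h1
  have h3 : ∀ i, bb.repr (r (a e)) i = 0 := fun i => by
    by_cases hi : i ∈ T
    · have h4 := linearIndependent_iff'.mp hS.1 t
        (fun e => (⟨(bb.repr (r (a e)) i) ^ p, pow_mem p P _⟩ : EGA41.pPowerSubalgebra p P k)) (h2 i hi) e he
      exact (pow_eq_zero_iff (Fact.out : p.Prime).ne_zero).mp (congrArg Subtype.val h4)
    · exact Finsupp.notMem_support_iff.mp fun h' => hi (Finset.mem_biUnion.mpr ⟨e, he, h'⟩)
  apply Subtype.ext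
  rw [← hr (a e), bb.repr.map_eq_zero_iff.mp (Finsupp.ext h3 : bb.repr (r (a e)) = 0),
    zero_pow (Fact.out : p.Prime).ne_zero]
  rfl


theorem macLane_of_geometricallyReduced [Algebra.IsGeometricallyReduced k K] : IsMacLane p k K := by
  intro ι b hb
  rw [linearIndependent_iff']
  intro t a ha i hi
  classical
  have hred : IsReduced (AlgebraicClosure k ⊗[k] K) :=
    (Algebra.isGeometricallyReduced_field_iff k K).mp inferInstance
  choose r hr using fun j => IsAlgClosed.exists_pow_nat_eq (algebraMap k (AlgebraicClosure k) (a j))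
    (Fact.out : p.Prime).pos
  let z : AlgebraicClosure k ⊗[k] K := ∑ j ∈ t, r j ⊗ₜ b j
  have : CharP (AlgebraicClosure k) p := charP_of_injective_algebraMap (algebraMap k (AlgebraicClosure k)).injective p
  have : CharP (AlgebraicClosure k ⊗[k] K) p :=
    charP_of_injective_ringHom (f := (Algebra.TensorProduct.includeRight : K →ₐ[k] AlgebraicClosure k ⊗[k] K).toRingHom)
      (Algebra.TensorProduct.includeRight_injective (algebraMap k (AlgebraicClosure k)).injective) p
  have hz : z ^ p = 0 := by
    rw [sum_pow_char p]
    calc ∑ j ∈ t, (r j ⊗ₜ b j) ^ p = ∑ j ∈ t, (1 : AlgebraicClosure k) ⊗ₜ[k] (a j • b j ^ p) := by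
          refine Finset.sum_congr rfl fun j _ => ?_
          rw [Algebra.TensorProduct.tmul_pow, hr, TensorProduct.tmul_smul, TensorProduct.smul_tmul',
            Algebra.smul_def, mul_one]
      _ = 0 := by rw [← TensorProduct.tmul_sum, ha, TensorProduct.tmul_zero]
  have hz0 : z = 0 := eq_zero_of_pow_eq_zero hz
  obtain ⟨L, hL⟩ := LinearMap.exists_extend ((Finsupp.lapply i).comp hb.repr)
  have := congrArg (fun w => TensorProduct.rid k (AlgebraicClosure k) (L.lTensor (AlgebraicClosure k) w)) hz0
  have hLb : ∀ j, L (b j) = if j = i then 1 else 0 := fun j => by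
    have := DFunLike.congr_fun hL ⟨_, Submodule.subset_span (Set.mem_range_self j)⟩
    simp only [LinearMap.comp_apply, Submodule.coe_subtype, Finsupp.lapply_apply] at this
    rw [hb.repr_eq_single j _ rfl, Finsupp.single_apply] at this
    exact this
  simp [z, map_sum, hLb, hi] at this
  have := hr i
  rw [show r i = 0 from ‹_›, zero_pow (Fact.out : p.Prime).ne_zero] at this
  exact (map_eq_zero _).mp this.symm

theorem geometricallyReduced_of_macLane (h : IsMacLane p k K) : Algebra.IsGeometricallyReduced k K := by
  rw [Algebra.isGeometricallyReduced_field_iff]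
  have : CharP (AlgebraicClosure k) p := charP_of_injective_algebraMap (algebraMap k (AlgebraicClosure k)).injective p
  have : CharP (AlgebraicClosure k ⊗[k] K) p :=
    charP_of_injective_ringHom (f := (Algebra.TensorProduct.includeRight : K →ₐ[k] AlgebraicClosure k ⊗[k] K).toRingHom)
      (Algebra.TensorProduct.includeRight_injective (algebraMap k (AlgebraicClosure k)).injective) p
  let bb := Module.Free.chooseBasis k K
  have hp := (Fact.out : p.Prime)
  have hzero : ∀ z : AlgebraicClosure k ⊗[k] K, z ^ p = 0 → z = 0 := fun z hz => by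
    obtain ⟨c, rfl⟩ := TensorProduct.eq_repr_basis_right bb z
    rw [Finsupp.sum, sum_pow_char p] at hz
    simp only [Algebra.TensorProduct.tmul_pow] at hz
    have h0 : c.support.sum (fun i => (c i ^ p) ⊗ₜ[k] (bb i ^ p)) = 0 := hz
    refine Finset.sum_eq_zero fun i hi => ?_
    obtain ⟨L, hL⟩ := LinearMap.exists_extend ((Finsupp.lapply i).comp (h _ bb bb.linearIndependent).repr)
    have hLb : ∀ j, L (bb j ^ p) = if j = i then 1 else 0 := fun j => by
      classical
      have := DFunLike.congr_fun hL ⟨_, Submodule.subset_span (Set.mem_range_self (f := fun l => bb l ^ p) j)⟩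
      simp only [LinearMap.comp_apply, Submodule.coe_subtype, Finsupp.lapply_apply] at this
      rw [(h _ bb bb.linearIndependent).repr_eq_single j _ rfl, Finsupp.single_apply] at this
      exact this
    classical
    have := congrArg (fun w => TensorProduct.rid k (AlgebraicClosure k) (L.lTensor (AlgebraicClosure k) w)) h0
    simp [map_sum, hLb, Finsupp.mem_support_iff.mp hi] at this
  refine ⟨fun z ⟨n, hn⟩ => ?_⟩
  induction n using Nat.strong_induction_on with
  | _ n ih =>
    rcases Nat.lt_or_ge 1 n with h1 | h1
    · let m := n / 2 + n % 2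
      refine ih m (by omega) (hzero _ ?_)
      rw [← pow_mul]
      exact pow_eq_zero_of_le (by have := hp.two_le; calc n ≤ m * 2 := by omega
        _ ≤ m * p := Nat.mul_le_mul_left _ hp.two_le) hn
    · interval_cases n
      · simpa using congrArg (z * ·) hn
      · simpa using hn

theorem geometricallyReduced_iff {S : Set k} (hS : EGA41.IsPBasis p P (Subtype.val : S → k)) : Algebra.IsGeometricallyReduced k K ↔
    LinearIndependent K (fun s : S => KaehlerDifferential.D ℤ K (algebraMap k K s)) := by
  obtain ⟨e, he⟩ := exists_kaehlerEquiv p (powField_hA' p (k := k) (K := K))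
  have h1 : LinearIndependent K (fun s : S => KaehlerDifferential.D ℤ K (algebraMap k K s)) ↔
      EGA41.IsPIndependent p P (fun s : S => algebraMap k K s) := by
    rw [independent_iff, ← LinearMap.linearIndependent_iff e.toLinearMap e.ker]
    rw [show (e.toLinearMap ∘ fun s : S => KaehlerDifferential.D ℤ K (algebraMap k K (s : k))) =
      fun s : S => KaehlerDifferential.D P K (algebraMap k K (s : k)) from funext fun s => he _]
  rw [h1]
  exact ⟨fun _ => independent_of_macLane p hS (macLane_of_geometricallyReduced p),
    fun h => geometricallyReduced_of_macLane p (macLane_of_independent p hS h)⟩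

end Groth.Agent.Alg.PBasis
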