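import Groth.Agent.Alg.PBasis.MacLane
import Mathlib.RingTheory.Ideal.Quotient.Operations
import Mathlib.RingTheory.Smooth.Field
import Mathlib.RingTheory.AlgebraicIndependent.TranscendenceBasis
import Mathlib.RingTheory.AlgebraicIndependent.Adjoin
import Mathlib.FieldTheory.Perfect

/-! Geometrically reduced field extensions are formally smooth. -/

universe u

namespace Groth.Agent.Alg.PBasis

variable {k K : Type u} [Field k] [Field K] [Algebra k K]

theorem exists_lift_charP (p : ℕ) [Fact p.Prime] [CharP k p] [CharP K p]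
    [Algebra.IsGeometricallyReduced k K] {C : Type u} [CommRing C] [Algebra k C] [Nontrivial C]
    (π : C →ₐ[k] K) (hπ : Function.Surjective π) (hsq : ∀ a b, π a = 0 → π b = 0 → a * b = 0) :
    ∃ v : K →ₐ[k] C, ∀ x, π (v x) = x := by
  classical
  have hp := (Fact.out : p.Prime)
  have : CharP C p := charP_of_injective_algebraMap (algebraMap k C).injective p
  obtain ⟨S, hS⟩ := exists_pBasis p k
  have hind : EGA41.IsPIndependent p (powField p k) (fun s : S => algebraMap k K s) := independent_of_macLane p hS (macLane_of_geometricallyReduced p (k := k) (K := K))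
  let xK : S → K := fun s => algebraMap k K s
  let T : Submodule ℕ C := Submodule.span ℕ
    (Set.range fun q : C × {e : S →₀ ℕ // ∀ i, e i < p} =>
      q.1 ^ p * algebraMap k C (EGA41.pMonomial Subtype.val q.2.1))
  let gen : Set C := (Set.range fun c : C => c ^ p) ∪ Set.range (algebraMap k C)
  have hgen : ∀ a ∈ Subring.closure gen, a ∈ Algebra.adjoin ℕ gen ∨ True := fun a _ => Or.inr trivial
  clear hgen T
  have hexp : ∀ a ∈ Subring.closure gen, ∃ c : {e : S →₀ ℕ // ∀ i, e i < p} →₀ C,
      a = c.sum fun e r => r ^ p * algebraMap k C (EGA41.pMonomial Subtype.val e.1) := by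
    let W : AddSubgroup C :=
      { carrier := {a | ∃ c : {e : S →₀ ℕ // ∀ i, e i < p} →₀ C,
          a = c.sum fun e r => r ^ p * algebraMap k C (EGA41.pMonomial Subtype.val e.1)}
        add_mem' := by
          rintro _ _ ⟨c, rfl⟩ ⟨d, rfl⟩
          exact ⟨c + d, by rw [Finsupp.sum_add_index' (by simp [hp.ne_zero]) (by simp [add_pow_char, add_mul])]⟩
        zero_mem' := ⟨0, by simp⟩
        neg_mem' := by
          rintro _ ⟨c, rfl⟩
          refine ⟨c.mapRange (fun r => -r) (by simp), ?_⟩
          rw [Finsupp.sum_mapRange_index (by simp [hp.ne_zero]), Finsupp.sum, Finsupp.sum, ← Finset.sum_neg_distrib]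
          exact Finset.sum_congr rfl fun e _ => by
            rw [← neg_mul]
            congr 1
            exact ((frobenius C p).map_neg (c e)).symm }
    have hscale : ∀ (d : C) (a : C), a ∈ W → d ^ p * a ∈ W := by
      rintro d _ ⟨c, rfl⟩
      refine ⟨c.mapRange (fun r => d * r) (by simp), ?_⟩
      rw [Finsupp.sum_mapRange_index (by simp [hp.ne_zero]), Finsupp.mul_sum]
      exact Finsupp.sum_congr fun e _ => by rw [mul_pow, mul_assoc]
    have hk : ∀ b : k, algebraMap k C b ∈ W := fun b => by
      obtain ⟨c, hc⟩ := exists_expansion p hS b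
      refine ⟨c.mapRange (algebraMap k C) (map_zero _), ?_⟩
      rw [Finsupp.sum_mapRange_index (by simp [hp.ne_zero]), hc, map_finsuppSum]
      exact Finsupp.sum_congr fun e _ => by rw [map_mul, map_pow]
    have hmulk : ∀ (b : k) (a : C), a ∈ W → algebraMap k C b * a ∈ W := by
      rintro b _ ⟨c, rfl⟩
      rw [Finsupp.mul_sum]
      refine W.sum_mem fun e _ => ?_
      beta_reduce
      rw [mul_left_comm, ← map_mul]
      exact hscale _ _ (hk _)
    intro a ha
    have h1 : (1 : C) ∈ W := map_one (algebraMap k C) ▸ hk 1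
    suffices ∀ a ∈ Subring.closure gen, ∀ w ∈ W, a * w ∈ W from by simpa [W] using this a ha 1 h1
    intro a ha
    induction ha using Subring.closure_induction with
    | mem y hy =>
      intro w hw
      rcases hy with ⟨d, rfl⟩ | ⟨b, rfl⟩
      · exact hscale d w hw
      · exact hmulk b w hw
    | zero => intro w _; rw [zero_mul]; exact W.zero_mem
    | one => intro w hw; rwa [one_mul]
    | add a b _ _ ha hb => intro w hw; rw [add_mul]; exact W.add_mem (ha w hw) (hb w hw)
    | neg a _ ha => intro w hw; rw [neg_mul]; exact W.neg_mem (ha w hw)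
    | mul a b _ _ ha hb => intro w hw; rw [mul_assoc]; exact ha _ (hb w hw)
  have hinj : ∀ a ∈ Subring.closure gen, π.toRingHom a = 0 → a = 0 := by
    intro a ha h0
    obtain ⟨c, rfl⟩ := hexp a ha
    have h1 : ∑ e ∈ c.support, π (c e) ^ p * EGA41.pMonomial xK e.1 = 0 := by
      rw [← h0]
      simp [Finsupp.sum, EGA41.pMonomial, map_finsuppProd, xK]
    refine Finset.sum_eq_zero fun e he => ?_
    have h2 := linearIndependent_iff'.mp hind c.support
      (fun e => (⟨π (c e) ^ p, pow_mem p (powField p k) _⟩ : EGA41.pPowerSubalgebra p (powField p k) K)) h1 e he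
    have h3 : π (c e) = 0 := (pow_eq_zero_iff hp.ne_zero).mp (congrArg Subtype.val h2)
    beta_reduce
    rw [show c e ^ p = c e ^ 2 * c e ^ (p - 2) by rw [← pow_add, Nat.add_sub_cancel' hp.two_le], sq,
      hsq _ _ h3 h3, zero_mul, zero_mul]
  obtain ⟨s, hs, hsS, -⟩ := PthRoot.exists_section_extend p π.toRingHom hπ hsq (Subring.closure gen)
    (fun c => Subring.subset_closure (Or.inl ⟨c, rfl⟩)) hinj ∅ Set.subsingleton_empty (by simp)
  refine ⟨{ s with commutes' := fun b => ?_ }, hs⟩
  have := hsS (algebraMap k C b) (Subring.subset_closure (Or.inr ⟨b, rfl⟩))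
  simpa using this

theorem formallySmooth_of_geometricallyReduced [Algebra.IsGeometricallyReduced k K] :
    Algebra.FormallySmooth k K := by
  obtain ⟨p, hk⟩ := CharP.exists k
  rcases CharP.char_is_prime_or_zero k p with hp | rfl
  · have := Fact.mk hp
    have : CharP K p := charP_of_injective_algebraMap (algebraMap k K).injective p
    refine Algebra.FormallySmooth.of_comp_surjective fun C _ _ I hI u => ?_
    rcases subsingleton_or_nontrivial C with hC | hC
    · exact ⟨{ toFun := fun _ => 0, map_one' := Subsingleton.elim _ _, map_mul' := fun _ _ => Subsingleton.elim _ _,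
               map_zero' := rfl, map_add' := fun _ _ => Subsingleton.elim _ _, commutes' := fun _ => Subsingleton.elim _ _ },
        AlgHom.ext fun _ => (Subsingleton.elim _ _)⟩
    have hI' : I ≠ ⊤ := fun h => by rw [h, Ideal.top_pow] at hI; exact top_ne_bot hI
    have : Nontrivial (C ⧸ I) := Ideal.Quotient.nontrivial_iff.mpr hI'
    let C' : Subalgebra k C := u.range.comap (Ideal.Quotient.mkₐ k I)
    let e : K ≃ₐ[k] u.range := AlgEquiv.ofInjective u u.toRingHom.injective
    let q : C' →ₐ[k] u.range := ((Ideal.Quotient.mkₐ k I).comp C'.val).codRestrict u.range fun c => c.2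
    let π : C' →ₐ[k] K := e.symm.toAlgHom.comp q
    have hπu : ∀ c : C', u (π c) = Ideal.Quotient.mk I c := fun c =>
      congrArg Subtype.val (e.apply_symm_apply (q c))
    have hπ : Function.Surjective π := fun x => by
      obtain ⟨c, hc⟩ := Ideal.Quotient.mk_surjective (u x)
      exact ⟨⟨c, x, hc.symm⟩, u.toRingHom.injective ((hπu _).trans hc)⟩
    have hsq : ∀ a b, π a = 0 → π b = 0 → a * b = 0 := fun a b ha hb => by
      have ha' : (a : C) ∈ I := Ideal.Quotient.eq_zero_iff_mem.mp (by rw [← hπu, ha, map_zero])
      have hb' : (b : C) ∈ I := Ideal.Quotient.eq_zero_iff_mem.mp (by rw [← hπu, hb, map_zero])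
      have := Ideal.mul_mem_mul ha' hb'
      rw [← sq, hI, Ideal.mem_bot] at this
      exact Subtype.ext this
    obtain ⟨v, hv⟩ := exists_lift_charP p π hπ hsq
    exact ⟨C'.val.comp v, AlgHom.ext fun x => by
      change Ideal.Quotient.mk I (v x : C) = u x
      rw [← hπu, hv]⟩
  · have : CharZero k := CharP.charP_to_charZero k
    obtain ⟨s, hs⟩ := exists_isTranscendenceBasis k K
    have := hs.isAlgebraic_field
    have : Algebra.IsSeparable (IntermediateField.adjoin k (Set.range (Subtype.val : s → K))) K := by
      have : CharZero (IntermediateField.adjoin k (Set.range (Subtype.val : s → K))) :=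
        charZero_of_injective_algebraMap (algebraMap k _).injective
      exact Algebra.IsAlgebraic.isSeparable_of_perfectField
    exact Algebra.FormallySmooth.of_algebraicIndependent_of_isSeparable hs.1

end Groth.Agent.Alg.PBasis
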